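import Groth.Agent.Lib.VarDim.Alg
import Mathlib.Algebra.Module.LocalizedModule.Int
import Mathlib.RingTheory.Flat.Basic
import Mathlib.RingTheory.TensorProduct.MvPolynomial
import Mathlib.RingTheory.Ideal.MinimalPrime.Localization
import Mathlib.RingTheory.Ideal.KrullsHeightTheorem
import Mathlib.RingTheory.NoetherNormalization
import Mathlib.LinearAlgebra.TensorProduct.Pi
import Mathlib.RingTheory.Localization.Finiteness
import Mathlib.RingTheory.FiniteStability

/-!
# The dimension of an intersection in affine space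
-/

universe u

open TensorProduct

namespace Groth.Agent.DimInter18

/-- Finitely many linear functionals separate a finite torsion-free module over a domain. -/
theorem exists_separating_functionals (R M : Type u) [CommRing R] [IsDomain R] [AddCommGroup M] [Module R M]
    [Module.Finite R M] [Module.IsTorsionFree R M] :
    ∃ (b : ℕ) (g : M →ₗ[R] (Fin b → R)), Function.Injective g := by
  classical
  let S := nonZeroDivisors R
  let K := FractionRing R
  let V := LocalizedModule S M
  let j : M →ₗ[R] V := LocalizedModule.mkLinearMap S M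
  have hj : Function.Injective j := fun x y h => by
    obtain ⟨c, hc⟩ := IsLocalizedModule.exists_of_eq (S := S) (f := j) h
    exact smul_right_injective M (nonZeroDivisors.ne_zero c.2) hc
  haveI : Module.Finite K V := Module.Finite.of_isLocalizedModule S j
  let e := Module.finBasis K V
  obtain ⟨t, ht⟩ := (Module.Finite.fg_top (R := R) (M := M))
  let c : M →ₗ[R] (Fin (Module.finrank K V) → K) := (e.equivFun.toLinearMap.restrictScalars R).comp j
  obtain ⟨d, hd⟩ := IsLocalization.exist_integer_multiples S (t ×ˢ Finset.univ)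
    fun p : M × Fin (Module.finrank K V) => c p.1 p.2
  let N : Submodule R (Fin (Module.finrank K V) → K) :=
    LinearMap.range ((Algebra.linearMap R K).compLeft (Fin (Module.finrank K V)))
  have hN : ∀ x, (d : R) • c x ∈ N := fun x => by
    have : (⊤ : Submodule R M) ≤ N.comap ((d : R) • c) := by
      rw [← ht, Submodule.span_le]
      intro y hy
      have h : ∀ i, ∃ r, algebraMap R K r = (d : R) • c y i := fun i =>
        hd (y, i) (Finset.mem_product.2 ⟨hy, Finset.mem_univ _⟩)
      choose r hr using h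
      exact ⟨r, funext hr⟩
    exact this trivial
  have hι : Function.Injective ((Algebra.linearMap R K).compLeft (Fin (Module.finrank K V))) :=
    fun a b h => funext fun i => IsFractionRing.injective R K (congrFun h i)
  refine ⟨_, (LinearEquiv.ofInjective _ hι).symm.toLinearMap.comp (((d : R) • c).codRestrict N hN),
    (LinearEquiv.ofInjective _ hι).symm.injective.comp fun x y h => hj (e.equivFun.injective ?_)⟩
  have h' : (d : R) • c x = (d : R) • c y := congrArg Subtype.val h
  exact smul_right_injective _ (nonZeroDivisors.ne_zero d.2) h'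

variable (k : Type u) [Field k]

/-- The tensor product of two finitely generated domains over a field is equidimensional. -/
theorem le_ringKrullDim_quotient_minimalPrime (A C : Type u) [CommRing A] [IsDomain A] [Algebra k A]
    [Algebra.FiniteType k A] [CommRing C] [IsDomain C] [Algebra k C] [Algebra.FiniteType k C]
    (r s : ℕ) (hr : ringKrullDim A = r) (hs : ringKrullDim C = s)
    (m : Ideal (A ⊗[k] C)) (hm : m ∈ minimalPrimes (A ⊗[k] C)) :
    ringKrullDim ((A ⊗[k] C) ⧸ m) = (r + s : ℕ) := by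
  obtain ⟨s', g, hg, hgi, hdim, -⟩ := VarDim.exists_noether_dim k C
  obtain rfl : s' = s := by exact_mod_cast hdim.symm.trans hs
  let R1 := MvPolynomial (Fin s') k
  letI : Algebra R1 C := g.toRingHom.toAlgebra
  haveI : IsScalarTower k R1 C := IsScalarTower.of_algebraMap_eq fun x => (g.commutes x).symm
  haveI : Algebra.FiniteType R1 C := Algebra.FiniteType.of_restrictScalars_finiteType k R1 C
  haveI : Algebra.IsIntegral R1 C := ⟨hgi⟩
  haveI : Module.Finite R1 C := Algebra.IsIntegral.finite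
  haveI : Module.IsTorsionFree R1 C := Module.isTorsionFree_iff_algebraMap_injective.2 hg
  obtain ⟨b, G, hG⟩ := exists_separating_functionals R1 C
  let φ : A ⊗[k] R1 →ₐ[k] A ⊗[k] C := Algebra.TensorProduct.map (AlgHom.id k A) g
  haveI : IsDomain (A ⊗[k] R1) :=
    (MvPolynomial.algebraTensorAlgEquiv k A (σ := Fin s')).injective.isDomain
      (MvPolynomial.algebraTensorAlgEquiv k A (σ := Fin s'))
  have hdT : ringKrullDim (A ⊗[k] R1) = (r + s' : ℕ) := by
    haveI : IsNoetherianRing A := Algebra.FiniteType.isNoetherianRing k A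
    rw [ringKrullDim_eq_of_ringEquiv (MvPolynomial.algebraTensorAlgEquiv k A (σ := Fin s')).toRingEquiv,
      MvPolynomial.ringKrullDim_of_isNoetherianRing, hr]
    simp
  let p : Fin b → (C →ₗ[k] R1) := fun i => ((LinearMap.proj i).comp G).restrictScalars k
  let P : Fin b → (A ⊗[k] C →ₗ[k] A ⊗[k] R1) := fun i => (p i).lTensor A
  have hP : ∀ (t : A ⊗[k] R1) (z : A ⊗[k] C) (i : Fin b), P i (φ t * z) = t * P i z := by
    intro t z i
    induction t with
    | zero => simp
    | add x y hx hy => rw [map_add, add_mul, map_add, hx, hy, add_mul]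
    | tmul a w =>
      induction z with
      | zero => simp
      | add x y hx hy => rw [mul_add, map_add, hx, hy, map_add, mul_add]
      | tmul a' c =>
        show (p i).lTensor A ((a ⊗ₜ g w) * (a' ⊗ₜ c)) = (a ⊗ₜ w) * (p i).lTensor A (a' ⊗ₜ c)
        rw [Algebra.TensorProduct.tmul_mul_tmul, LinearMap.lTensor_tmul, LinearMap.lTensor_tmul,
          Algebra.TensorProduct.tmul_mul_tmul]
        congr 1
        show G (g w * c) i = w * G c i
        rw [show g w * c = w • c from (Algebra.smul_def w c).symm, map_smul]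
        rfl
  have hsep : ∀ z : A ⊗[k] C, (∀ i, P i z = 0) → z = 0 := by
    intro z hz
    have hinj : Function.Injective ((G.restrictScalars k).lTensor A) :=
      Module.Flat.lTensor_preserves_injective_linearMap (M := A) (G.restrictScalars k) hG
    refine hinj ?_
    rw [map_zero]
    refine (TensorProduct.piRight k k A (fun _ : Fin b => R1)).injective ?_
    rw [map_zero]
    funext i
    refine Eq.trans ?_ (hz i)
    clear hz
    induction z with
    | zero => simp
    | add x y hx hy => simp only [map_add, Pi.add_apply, hx, hy]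
    | tmul a c =>
      show (TensorProduct.piRight k k A fun _ : Fin b => R1) (a ⊗ₜ G c) i = _
      rw [TensorProduct.piRight_apply, TensorProduct.piRightHom_tmul]
      rfl
  have hnzd : ∀ t, t ≠ 0 → φ t ∈ nonZeroDivisors (A ⊗[k] C) := fun t ht => by
    refine mem_nonZeroDivisors_iff_right.2 fun z hz => hsep z fun i => ?_
    have := hP t z i
    rw [mul_comm, hz, map_zero] at this
    exact (mul_eq_zero.1 this.symm).resolve_left ht
  haveI := Ideal.minimalPrimes_isPrime hm
  let ψ : A ⊗[k] R1 →+* (A ⊗[k] C) ⧸ m := (Ideal.Quotient.mk m).comp φ.toRingHom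
  have hψ : Function.Injective ψ := by
    refine (injective_iff_map_eq_zero _).2 fun t ht => ?_
    by_contra hne
    exact Set.disjoint_left.1 (Ideal.disjoint_nonZeroDivisors_of_mem_minimalPrimes hm)
      (Ideal.Quotient.eq_zero_iff_mem.1 ht) (hnzd t hne)
  letI : Algebra (A ⊗[k] R1) ((A ⊗[k] C) ⧸ m) := ψ.toAlgebra
  haveI : Algebra.IsIntegral (A ⊗[k] R1) ((A ⊗[k] C) ⧸ m) := ⟨fun z => by
    obtain ⟨z, rfl⟩ := Ideal.Quotient.mk_surjective z
    induction z with
    | zero => rw [map_zero]; exact isIntegral_zero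
    | add x y hx hy => rw [map_add]; exact hx.add hy
    | tmul a c =>
      have e : a ⊗ₜ[k] c = φ (a ⊗ₜ 1) * ((1 : A) ⊗ₜ c) := by
        rw [Algebra.TensorProduct.map_tmul, map_one, Algebra.TensorProduct.tmul_mul_tmul]
        simp
      rw [e, map_mul]
      refine isIntegral_algebraMap.mul ?_
      obtain ⟨q, hq, hq0⟩ := hgi c
      refine ⟨q.map (Algebra.TensorProduct.includeRight (R := k) (A := A) (B := R1)).toRingHom, hq.map _, ?_⟩
      rw [Polynomial.eval₂_map]
      have hc : (algebraMap (A ⊗[k] R1) ((A ⊗[k] C) ⧸ m)).comp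
          (Algebra.TensorProduct.includeRight (R := k) (A := A) (B := R1)).toRingHom =
          ((Ideal.Quotient.mk m).comp
            (Algebra.TensorProduct.includeRight (R := k) (A := A) (B := C)).toRingHom).comp g.toRingHom := by
        refine RingHom.ext fun w => ?_
        show Ideal.Quotient.mk m (φ (1 ⊗ₜ w)) = Ideal.Quotient.mk m (1 ⊗ₜ g w)
        rw [Algebra.TensorProduct.map_tmul]
        rfl
      rw [hc, show Ideal.Quotient.mk m ((1 : A) ⊗ₜ[k] c) = ((Ideal.Quotient.mk m).comp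
        (Algebra.TensorProduct.includeRight (R := k) (A := A) (B := C)).toRingHom) c from rfl,
        ← Polynomial.hom_eval₂, hq0, map_zero]⟩
  rw [VarDim.ringKrullDim_eq_of_isIntegral (R := A ⊗[k] R1) hψ, hdT]

/-- The dimension inequality, for two domains presented as quotients of a polynomial ring. -/
theorem add_le_aux {σ : Type u} [Fintype σ] (A C : Type u) [CommRing A] [IsDomain A] [Algebra k A]
    [Algebra.FiniteType k A] [CommRing C] [IsDomain C] [Algebra k C] [Algebra.FiniteType k C]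
    (fp : MvPolynomial σ k →ₐ[k] A) (hfp : Function.Surjective fp)
    (fq : MvPolynomial σ k →ₐ[k] C) (hfq : Function.Surjective fq)
    (P : Ideal (MvPolynomial σ k)) [P.IsPrime]
    (hP : ∀ Q : Ideal (MvPolynomial σ k), Q.IsPrime → RingHom.ker fp.toRingHom ≤ Q →
      RingHom.ker fq.toRingHom ≤ Q → Q ≤ P → P ≤ Q)
    (gp : A →ₐ[k] MvPolynomial σ k ⧸ P) (hgp : gp.comp fp = Ideal.Quotient.mkₐ k P)
    (gq : C →ₐ[k] MvPolynomial σ k ⧸ P) (hgq : gq.comp fq = Ideal.Quotient.mkₐ k P) (r s : ℕ)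
    (hr : ringKrullDim A = r) (hs : ringKrullDim C = s) :
    ((r + s : ℕ) : WithBot ℕ∞) ≤ ringKrullDim (MvPolynomial σ k ⧸ P) + (Fintype.card σ : WithBot ℕ∞) := by
  classical
  let π : (A ⊗[k] C) →ₐ[k] MvPolynomial σ k ⧸ P :=
    Algebra.TensorProduct.lift gp gq
      fun _ _ => mul_comm _ _
  let u : (MvPolynomial σ k) →ₐ[k] (A ⊗[k] C) := Algebra.TensorProduct.includeLeft.comp fp
  let v : (MvPolynomial σ k) →ₐ[k] (A ⊗[k] C) := Algebra.TensorProduct.includeRight.comp fq
  have hπu : π.comp u = Ideal.Quotient.mkₐ k P := AlgHom.ext fun x => by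
    show π (fp x ⊗ₜ 1) = _
    rw [Algebra.TensorProduct.lift_tmul, map_one, mul_one, ← hgp]
    rfl
  have hπv : π.comp v = Ideal.Quotient.mkₐ k P := AlgHom.ext fun x => by
    show π (1 ⊗ₜ fq x) = _
    rw [Algebra.TensorProduct.lift_tmul, map_one, one_mul, ← hgq]
    rfl
  let Pb : Ideal (A ⊗[k] C) := RingHom.ker π.toRingHom
  haveI : Pb.IsPrime := RingHom.ker_isPrime _
  have hsurj : Function.Surjective π := fun z => by
    obtain ⟨x, rfl⟩ := Ideal.Quotient.mk_surjective z
    exact ⟨u x, congrArg (fun f : (MvPolynomial σ k) →ₐ[k] MvPolynomial σ k ⧸ P => f x) hπu⟩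
  let Δ : Finset (A ⊗[k] C) := Finset.univ.image fun i : σ => u (MvPolynomial.X i) - v (MvPolynomial.X i)
  have hΔ : Ideal.span (Δ : Set (A ⊗[k] C)) ≤ Pb := Ideal.span_le.2 fun b hb => by
    obtain ⟨i, -, rfl⟩ := Finset.mem_image.1 hb
    show π (_ - _) = 0
    rw [map_sub, sub_eq_zero]
    exact (congrArg (fun f : (MvPolynomial σ k) →ₐ[k] MvPolynomial σ k ⧸ P => f (MvPolynomial.X i)) (hπu.trans hπv.symm) :)
  obtain ⟨m, hm, hmP⟩ := Ideal.exists_minimalPrimes_le (R := (A ⊗[k] C)) (I := ⊥) (J := Pb) bot_le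
  haveI := Ideal.minimalPrimes_isPrime hm
  have hmin : ∀ Q : Ideal (A ⊗[k] C), Q.IsPrime → Ideal.span (Δ : Set (A ⊗[k] C)) ≤ Q → Q ≤ Pb → Pb ≤ Q := by
    intro Q hQ hΔQ hQP
    have huv : (Ideal.Quotient.mkₐ k Q).comp u = (Ideal.Quotient.mkₐ k Q).comp v :=
      MvPolynomial.algHom_ext fun i => (Ideal.Quotient.eq (I := Q)).2
        (hΔQ (Ideal.subset_span (Finset.mem_image.2 ⟨i, Finset.mem_univ _, rfl⟩)))
    let Q0 : Ideal (MvPolynomial σ k) := Q.comap u
    have hp0 : RingHom.ker fp.toRingHom ≤ Q0 := fun x hx => by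
      show fp x ⊗ₜ (1 : C) ∈ Q
      rw [show fp x = 0 from hx, zero_tmul]
      exact Q.zero_mem
    have hq0 : RingHom.ker fq.toRingHom ≤ Q0 := fun x hx => by
      show u x ∈ Q
      rw [← Ideal.Quotient.eq_zero_iff_mem]
      refine (congrArg (fun f : (MvPolynomial σ k) →ₐ[k] (A ⊗[k] C) ⧸ Q => f x) huv).trans (Ideal.Quotient.eq_zero_iff_mem.2 ?_)
      show (1 : A) ⊗ₜ fq x ∈ Q
      rw [show fq x = 0 from hx, tmul_zero]
      exact Q.zero_mem
    have hQ0P : Q0 ≤ P := fun x hx => Ideal.Quotient.eq_zero_iff_mem.1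
      ((congrArg (fun f : (MvPolynomial σ k) →ₐ[k] MvPolynomial σ k ⧸ P => f x) hπu).symm.trans (hQP hx))
    have hPQ0 : P ≤ Q0 := hP Q0 (Ideal.IsPrime.comap u) hp0 hq0 hQ0P
    have hrep : ∀ b : (A ⊗[k] C), ∃ x : MvPolynomial σ k, b - u x ∈ Q := by
      intro b
      induction b with
      | zero => exact ⟨0, by simp⟩
      | add b₁ b₂ h₁ h₂ =>
        obtain ⟨x₁, hx₁⟩ := h₁
        obtain ⟨x₂, hx₂⟩ := h₂
        exact ⟨x₁ + x₂, by rw [map_add, add_sub_add_comm]; exact Q.add_mem hx₁ hx₂⟩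
      | tmul a c =>
        obtain ⟨x, rfl⟩ := hfp a
        obtain ⟨y, rfl⟩ := hfq c
        refine ⟨x * y, Ideal.Quotient.eq.1 ?_⟩
        have e : fp x ⊗ₜ[k] fq y = u x * v y := by
          show _ = (fp x ⊗ₜ[k] (1 : C)) * ((1 : A) ⊗ₜ[k] fq y)
          rw [Algebra.TensorProduct.tmul_mul_tmul, mul_one, one_mul]
        rw [e, map_mul u, map_mul, map_mul,
          show Ideal.Quotient.mk Q (v y) = Ideal.Quotient.mk Q (u y) from
            (congrArg (fun f : (MvPolynomial σ k) →ₐ[k] (A ⊗[k] C) ⧸ Q => f y) huv).symm]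
    intro b hb
    obtain ⟨x, hx⟩ := hrep b
    have hxP : x ∈ P := Ideal.Quotient.eq_zero_iff_mem.1 (by
      have h1 : π (b - u x) = 0 := hQP hx
      rw [map_sub, show π b = 0 from hb, zero_sub, neg_eq_zero] at h1
      exact (congrArg (fun f : (MvPolynomial σ k) →ₐ[k] MvPolynomial σ k ⧸ P => f x) hπu).symm.trans h1)
    simpa using Q.add_mem hx (hPQ0 hxP)
  let Pd : PrimeSpectrum ((A ⊗[k] C) ⧸ m) :=
    ⟨Pb.map (Ideal.Quotient.mk m),
      Ideal.map_isPrime_of_surjective Ideal.Quotient.mk_surjective (by rw [Ideal.mk_ker]; exact hmP)⟩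
  have hback : Pd.asIdeal.comap (Ideal.Quotient.mk m) = Pb := by
    rw [Ideal.comap_map_of_surjective _ Ideal.Quotient.mk_surjective, ← RingHom.ker_eq_comap_bot,
      Ideal.mk_ker, sup_eq_left.2 hmP]
  haveI : Pd.asIdeal.IsPrime := Pd.isPrime
  have hmem : Pd.asIdeal ∈ (Ideal.span ((Δ.image (Ideal.Quotient.mk m) : Finset ((A ⊗[k] C) ⧸ m)) : Set ((A ⊗[k] C) ⧸ m))).minimalPrimes := by
    rw [Finset.coe_image, ← Ideal.map_span]
    refine ⟨⟨Pd.isPrime, Ideal.map_mono hΔ⟩, fun Q hQ hQP => ?_⟩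
    haveI := hQ.1
    have h1 : Ideal.span (Δ : Set (A ⊗[k] C)) ≤ Q.comap (Ideal.Quotient.mk m) := Ideal.map_le_iff_le_comap.1 hQ.2
    have h2 : Q.comap (Ideal.Quotient.mk m) ≤ Pb := (Ideal.comap_mono hQP).trans hback.le
    exact Ideal.map_le_iff_le_comap.2 (hmin _ inferInstance h1 h2)
  haveI : Algebra.FiniteType k A := inferInstance
  haveI : Algebra.FiniteType k (A ⊗[k] C) := Algebra.FiniteType.trans (S := A) inferInstance inferInstance
  haveI : Algebra.FiniteType k ((A ⊗[k] C) ⧸ m) :=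
    Algebra.FiniteType.of_surjective (Ideal.Quotient.mkₐ k m) Ideal.Quotient.mk_surjective
  haveI : IsNoetherianRing ((A ⊗[k] C) ⧸ m) := Algebra.FiniteType.isNoetherianRing k _
  have hh : Order.height Pd ≤ (Fintype.card σ : ℕ∞) := by
    have h := Ideal.height_le_card_of_mem_minimalPrimes_span_finset hmem
    rw [PrimeSpectrum.height_eq_orderHeight] at h
    refine le_trans h ?_
    exact_mod_cast Finset.card_image_le.trans Finset.card_image_le
  have hcd := VarDim.height_add_coheight k ((A ⊗[k] C) ⧸ m) Pd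
  have hdimD : ringKrullDim ((A ⊗[k] C) ⧸ m) = (r + s : ℕ) :=
    le_ringKrullDim_quotient_minimalPrime k A C r s hr hs m hm
  have hco : ((Order.coheight Pd : ℕ∞) : WithBot ℕ∞) = ringKrullDim (MvPolynomial σ k ⧸ P) := by
    rw [VarDim.coheight_eq_tdeg k ((A ⊗[k] C) ⧸ m) Pd]
    refine Eq.trans ?_ (ringKrullDim_eq_of_ringEquiv (R := ((A ⊗[k] C) ⧸ m) ⧸ Pb.map (Ideal.Quotient.mk m))
      ((DoubleQuot.quotQuotEquivQuotOfLE hmP).trans (RingHom.quotientKerEquivOfSurjective hsurj)))
    exact (VarDim.ringKrullDim_eq_tdeg k _).symm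
  rw [← hdimD, ← hcd, ← hco, WithBot.coe_add]
  calc (Order.height Pd : WithBot ℕ∞) + (Order.coheight Pd : WithBot ℕ∞)
      ≤ ((Fintype.card σ : ℕ∞) : WithBot ℕ∞) + (Order.coheight Pd : WithBot ℕ∞) := by
        exact add_le_add_left (WithBot.coe_le_coe.2 hh) _
    _ = _ := by rw [add_comm]; rfl

/-- The dimension inequality for prime ideals of a polynomial ring. -/
theorem add_le_of_minimal {σ : Type u} [Fintype σ] (p q P : Ideal (MvPolynomial σ k)) [p.IsPrime] [q.IsPrime]
    [P.IsPrime] (hP : P ∈ (p ⊔ q).minimalPrimes) (r s : ℕ)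
    (hr : ringKrullDim (MvPolynomial σ k ⧸ p) = r) (hs : ringKrullDim (MvPolynomial σ k ⧸ q) = s) :
    ((r + s : ℕ) : WithBot ℕ∞) ≤ ringKrullDim (MvPolynomial σ k ⧸ P) + (Fintype.card σ : WithBot ℕ∞) := by
  refine add_le_aux k _ _ (Ideal.Quotient.mkₐ k p) Ideal.Quotient.mk_surjective
    (Ideal.Quotient.mkₐ k q) Ideal.Quotient.mk_surjective P (fun Q hQ h1 h2 hQP => ?_)
    (Ideal.Quotient.factorₐ k (le_sup_left.trans hP.1.2)) (AlgHom.ext fun _ => rfl)
    (Ideal.Quotient.factorₐ k (le_sup_right.trans hP.1.2)) (AlgHom.ext fun _ => rfl) r s hr hs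
  have h1' : p ≤ Q := fun x hx => h1 (Ideal.Quotient.eq_zero_iff_mem.2 hx)
  have h2' : q ≤ Q := fun x hx => h2 (Ideal.Quotient.eq_zero_iff_mem.2 hx)
  exact hP.2 ⟨hQ, sup_le h1' h2'⟩ hQP

end Groth.Agent.DimInter18
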