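import Groth.Agent.Lib.DimInter18.Basic
import Mathlib.RingTheory.Spectrum.Prime.Topology
import Mathlib.Topology.KrullDimension
import Mathlib.Topology.Sober

/-!
# The dimension of the intersection of closed subsets of the spectrum of a polynomial ring
-/

universe u

open Topology

namespace Groth.Agent.DimInter18

section
variable {T : Type u} [TopologicalSpace T] [QuasiSober T] [T0Space T] {S : Set T}

omit [QuasiSober T] [T0Space T] in
theorem dim_subset (W : Set S) :
    topologicalKrullDim W = topologicalKrullDim ↥(Subtype.val '' W) := by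
  let f : W → ↥(Subtype.val '' W) := fun w => ⟨w.1.1, w.1, w.2, rfl⟩
  have hf : IsHomeomorph f := by
    rw [isHomeomorph_iff_isEmbedding_surjective]
    refine ⟨⟨⟨?_⟩, fun a b h => Subtype.ext (Subtype.ext (congrArg Subtype.val h :))⟩, ?_⟩
    · rw [show instTopologicalSpaceSubtype = TopologicalSpace.induced (Subtype.val ∘ f) _ from
        induced_compose (f := fun x : W => x.1) (g := fun x : S => x.1)]
      exact (induced_compose (f := f) (g := Subtype.val)).symm
    · rintro ⟨_, w, hw, rfl⟩; exact ⟨⟨w, hw⟩, rfl⟩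
  exact IsHomeomorph.topologicalKrullDim_eq f hf

omit [QuasiSober T] [T0Space T] in
theorem image_closure_singleton (hS : IsClosed S) (x : S) :
    Subtype.val '' closure ({x} : Set S) = closure {x.1} := by
  rw [← hS.isClosedEmbedding_subtypeVal.closure_image_eq, Set.image_singleton]

theorem exists_maximal_point (hS : IsClosed S) {Z : Set S} (hZ : Z ∈ irreducibleComponents S) :
    ∃ z : S, Subtype.val '' Z = closure {z.1} ∧ ∀ y : S, y.1 ⤳ z.1 → y = z := by
  haveI : QuasiSober S := hS.isClosedEmbedding_subtypeVal.quasiSober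
  obtain ⟨z, hz⟩ := QuasiSober.sober hZ.1 (isClosed_of_mem_irreducibleComponents Z hZ)
  refine ⟨z, by rw [← image_closure_singleton hS, hz.def], fun y hy => ?_⟩
  have hy' : y ⤳ z := (subtype_specializes_iff _ _).2 hy
  have h1 : Z ⊆ closure {y} := by
    rw [← hz.def]
    exact closure_minimal (Set.singleton_subset_iff.2 hy'.mem_closure) isClosed_closure
  have h2 := hZ.2 isIrreducible_singleton.closure h1
  exact hy'.antisymm (hz.specializes (h2 (subset_closure rfl))) |>.eq

theorem mem_components_of_maximal (hS : IsClosed S) (x : S) (hx : ∀ y : S, y.1 ⤳ x.1 → y = x) :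
    closure {x} ∈ irreducibleComponents S := by
  haveI : QuasiSober S := hS.isClosedEmbedding_subtypeVal.quasiSober
  refine ⟨isIrreducible_singleton.closure, fun W hW hle => ?_⟩
  obtain ⟨y, hy⟩ := QuasiSober.sober hW.closure isClosed_closure
  have hyx : y ⤳ x := hy.specializes (subset_closure (hle (subset_closure rfl)))
  obtain rfl := hx y ((subtype_specializes_iff _ _).1 hyx)
  exact subset_closure.trans hy.def.ge

end

variable (k : Type u) [Field k] {σ : Type u}

theorem dim_closure_singleton {T : Type u} [TopologicalSpace T]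
    (φ : T ≃ₜ PrimeSpectrum (MvPolynomial σ k)) (t : T) :
    topologicalKrullDim ↥(closure ({t} : Set T)) = ringKrullDim (MvPolynomial σ k ⧸ (φ t).asIdeal) := by
  let f := Ideal.Quotient.mk (φ t).asIdeal
  have hf : IsClosedEmbedding (φ.symm ∘ PrimeSpectrum.comap f) :=
    φ.symm.isClosedEmbedding.comp
      (PrimeSpectrum.isClosedEmbedding_comap_of_surjective _ f Ideal.Quotient.mk_surjective)
  have hr : Set.range (φ.symm ∘ PrimeSpectrum.comap f) = closure ({t} : Set T) := by
    rw [Set.range_comp, range_comap_of_surjective _ f Ideal.Quotient.mk_surjective,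
      Ideal.mk_ker, ← PrimeSpectrum.closure_singleton, φ.symm.image_closure, Set.image_singleton,
      φ.symm_apply_apply]
  rw [← hr, ← IsHomeomorph.topologicalKrullDim_eq _ hf.isEmbedding.toHomeomorph.isHomeomorph,
    PrimeSpectrum.topologicalKrullDim_eq_ringKrullDim]

theorem le_dim_component_inter [Fintype σ] {T : Type u} [TopologicalSpace T] [QuasiSober T] [T0Space T]
    (φ : T ≃ₜ PrimeSpectrum (MvPolynomial σ k)) (r s : ℕ) (X Y : Set T) (hX : IsClosed X) (hY : IsClosed Y)
    (hXr : ∀ Z ∈ irreducibleComponents X, topologicalKrullDim Z = r)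
    (hYs : ∀ Z ∈ irreducibleComponents Y, topologicalKrullDim Z = s)
    (Z : Set ↥(X ∩ Y)) (hZ : Z ∈ irreducibleComponents ↥(X ∩ Y)) :
    ((r + s : ℕ) : WithBot ℕ∞) ≤ topologicalKrullDim Z + (Fintype.card σ : WithBot ℕ∞) := by
  obtain ⟨z, hzZ, hzmax⟩ := exists_maximal_point (hX.inter hY) hZ
  rw [dim_subset, hzZ, dim_closure_singleton k φ]
  have comp : ∀ (W : Set T), IsClosed W → z.1 ∈ W → ∀ e : ℕ,
      (∀ C ∈ irreducibleComponents W, topologicalKrullDim C = e) →
      ∃ w : T, w ∈ W ∧ w ⤳ z.1 ∧ ringKrullDim (MvPolynomial σ k ⧸ (φ w).asIdeal) = e := by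
    intro W hW hzW e hWe
    obtain ⟨I, hI⟩ := (PrimeSpectrum.isClosed_iff_zeroLocus_ideal _).1 (φ.isClosedMap _ hW)
    have hmem : ∀ v : T, v ∈ W ↔ I ≤ (φ v).asIdeal := fun v => by
      rw [← φ.injective.mem_set_image, hI, PrimeSpectrum.mem_zeroLocus]
      rfl
    obtain ⟨p, hp, hpP⟩ := Ideal.exists_minimalPrimes_le ((hmem z.1).1 hzW)
    let w : T := φ.symm ⟨p, hp.1.1⟩
    have hw : φ w = ⟨p, hp.1.1⟩ := φ.apply_symm_apply _
    have hwW : w ∈ W := (hmem w).2 (by rw [hw]; exact hp.1.2)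
    have hspec : ∀ a b : T, a ⤳ b ↔ (φ a).asIdeal ≤ (φ b).asIdeal := fun a b => by
      rw [← φ.isInducing.specializes_iff, ← PrimeSpectrum.le_iff_specializes]
      rfl
    have hwmax : ∀ y : W, y.1 ⤳ w → y = ⟨w, hwW⟩ := fun y hy => by
      have h1 : (φ y.1).asIdeal ≤ p := by
        have := (hspec y.1 w).1 hy
        rwa [hw] at this
      refine Subtype.ext (φ.injective (PrimeSpectrum.ext ?_))
      rw [hw]
      exact h1.antisymm (hp.2 ⟨(φ y.1).isPrime, (hmem y.1).1 y.2⟩ h1)
    refine ⟨w, hwW, (hspec w z.1).2 (by rw [hw]; exact hpP), ?_⟩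
    rw [← dim_closure_singleton k φ, ← image_closure_singleton hW ⟨w, hwW⟩, ← dim_subset]
    exact hWe _ (mem_components_of_maximal hW _ hwmax)
  obtain ⟨wx, hwx, hsx, hdx⟩ := comp X hX z.2.1 r hXr
  obtain ⟨wy, hwy, hsy, hdy⟩ := comp Y hY z.2.2 s hYs
  have hle : ∀ a b : T, a ⤳ b ↔ (φ a).asIdeal ≤ (φ b).asIdeal := fun a b => by
    rw [← φ.isInducing.specializes_iff, ← PrimeSpectrum.le_iff_specializes]
    rfl
  haveI := (φ wx).isPrime
  haveI := (φ wy).isPrime
  haveI := (φ z.1).isPrime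
  refine add_le_of_minimal k (φ wx).asIdeal (φ wy).asIdeal (φ z.1).asIdeal ⟨⟨inferInstance,
    sup_le ((hle _ _).1 hsx) ((hle _ _).1 hsy)⟩, fun Q hQ hQP => ?_⟩ r s hdx hdy
  let v : T := φ.symm ⟨Q, hQ.1⟩
  have hv : φ v = ⟨Q, hQ.1⟩ := φ.apply_symm_apply _
  have hvxy : v ∈ X ∩ Y :=
    ⟨((hle wx v).2 (by rw [hv]; exact le_sup_left.trans hQ.2)).mem_closed hX hwx,
     ((hle wy v).2 (by rw [hv]; exact le_sup_right.trans hQ.2)).mem_closed hY hwy⟩
  have := congrArg (fun y : ↥(X ∩ Y) => (φ y.1).asIdeal)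
    (hzmax ⟨v, hvxy⟩ ((hle v z.1).2 (by rw [hv]; exact hQP)))
  simp only [hv] at this
  exact this.ge

end Groth.Agent.DimInter18
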